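import Groth.Agent.SectR19.Lead
import Mathlib.Algebra.MonoidAlgebra.Basic
import Mathlib.Algebra.Polynomial.AlgebraMap
import Mathlib.RingTheory.Ideal.Quotient.Operations

/-! The section ring of a degree one place modulo its degree one element. -/

open FunFld WithZero Groth.Agent.FF30 W4c6gradedringsgw Polynomial

namespace Groth.Agent.SectR19

universe u

variable {k K : Type u} [Field k] [IsAlgClosed k] [Field K] [Algebra k K]
variable (hK : IsFunctionField k K) (P : Place k K)

set_option linter.unusedSectionVars false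

/-- the section ring of `P` -/
noncomputable abbrev SR : Subalgebra k K[X] := sectRing (Finsupp.single P 1 : Divisor k K)

theorem mem_SR {p : K[X]} : p ∈ SR P ↔ ∀ n : ℕ, p.coeff n ∈ L (dv P (n : ℤ)) := Iff.rfl

/-- leading coefficients, degree by degree -/
noncomputable def psiFun (p : K[X]) : k[X] :=
  ∑ n ∈ p.support, monomial n (lead' hK P n (p.coeff n))

theorem coeff_psiFun (p : K[X]) (n : ℕ) : (psiFun hK P p).coeff n = lead' hK P n (p.coeff n) := by
  classical
  unfold psiFun
  rw [finsetSum_coeff]
  simp only [coeff_monomial]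
  rw [Finset.sum_ite_eq']
  split_ifs with h
  · rfl
  · rw [notMem_support_iff.1 h, lead'_zero]

/-- the degeneration map -/
noncomputable def psi : SR P →ₐ[k] k[X] where
  toFun p := psiFun hK P p
  map_one' := by
    ext n
    rw [coeff_psiFun, OneMemClass.coe_one, coeff_one, coeff_one]
    split_ifs with h
    · subst h
      exact (lead'_of_mem hK P (n := 0) (one_mem_L P)).trans (lead_one hK P)
    · exact lead'_zero hK P n
  map_mul' p q := by
    ext n
    rw [coeff_psiFun, MulMemClass.coe_mul, coeff_mul, coeff_mul, lead'_sum hK P]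
    · refine Finset.sum_congr rfl fun x hx => ?_
      rw [coeff_psiFun, coeff_psiFun, ← Finset.mem_antidiagonal.1 hx,
        lead'_mul hK P ((mem_SR P).1 p.2 x.1) ((mem_SR P).1 q.2 x.2)]
    · intro x hx
      rw [← Finset.mem_antidiagonal.1 hx]
      push_cast
      exact mul_mem_L_dv ((mem_SR P).1 p.2 x.1) ((mem_SR P).1 q.2 x.2)
  map_zero' := by
    ext n
    rw [coeff_psiFun, ZeroMemClass.coe_zero, Polynomial.coeff_zero, lead'_zero]
    simp
  map_add' p q := by
    ext n
    rw [coeff_psiFun, AddMemClass.coe_add, Polynomial.coeff_add, Polynomial.coeff_add, coeff_psiFun,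
      coeff_psiFun, lead'_add hK P ((mem_SR P).1 p.2 n) ((mem_SR P).1 q.2 n)]
  commutes' c := by
    ext n
    rw [coeff_psiFun, Subalgebra.coe_algebraMap, Polynomial.algebraMap_apply,
      Polynomial.algebraMap_apply, coeff_C, coeff_C]
    split_ifs with h
    · subst h
      have : algebraMap k K c = c • (1 : K) := Algebra.algebraMap_eq_smul_one c
      rw [lead'_of_mem hK P (n := 0) (this ▸ Submodule.smul_mem _ c (one_mem_L P)),
        show (⟨algebraMap k K c, _⟩ : L (dv P ((0 : ℕ) : ℤ))) =
          c • (⟨1, one_mem_L P⟩ : L (dv P ((0 : ℕ) : ℤ))) from Subtype.ext this, map_smul]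
      show c • lead hK P 0 ⟨1, one_mem_L P⟩ = c
      rw [lead_one, smul_eq_mul, mul_one]
    · exact lead'_zero hK P n

theorem coeff_psi (p : SR P) (n : ℕ) :
    (psi hK P p).coeff n = lead' hK P n ((p : K[X]).coeff n) := coeff_psiFun hK P _ n

include hK in
theorem const_of_mem_L_one (hg : 1 ≤ genus k K) {a : K} (ha : a ∈ L (dv P 1)) :
    ∃ c : k, algebraMap k K c = a := by
  rw [L_dv_one hK P hg, Submodule.mem_one] at ha
  exact ha

include hK in
theorem X_mem_SR : (X : K[X]) ∈ SR P := by
  rw [mem_SR]
  intro n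
  rw [coeff_X]
  split_ifs with h
  · subst h
    exact mem_L_dv.2 ⟨by rw [map_one]; exact (exp_zero (M := ℤ)).symm.le.trans (exp_le_exp.2 (by omega)), fun Q _ => (map_one Q.1).le⟩
  · exact zero_mem _

/-- the degree one element -/
noncomputable def XS : SR P := ⟨X, X_mem_SR hK P⟩

theorem psi_XS (hg : 1 ≤ genus k K) : psi hK P (XS hK P) = 0 := by
  ext n
  rw [coeff_psi]
  show lead' hK P n ((X : K[X]).coeff n) = _
  rw [coeff_X, Polynomial.coeff_zero]
  split_ifs with h
  · subst h
    exact lead'_eq_zero_of_not_mem hK P (one_not_mem_poleOrders hK P hg) _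
  · exact lead'_zero hK P n

theorem ker_psi (hg : 1 ≤ genus k K) : RingHom.ker (psi hK P).toRingHom = Ideal.span {XS hK P} := by
  refine le_antisymm (fun p hp => ?_) ?_
  · have hc : ∀ n : ℕ, lead' hK P n ((p : K[X]).coeff n) = 0 := fun n => by
      rw [← coeff_psi, show psi hK P p = 0 from hp, Polynomial.coeff_zero]
    have hmem : ∀ n : ℕ, (p : K[X]).coeff n ∈ L (dv P ((n : ℤ) - 1)) := fun n => by
      have := hc n
      rw [lead'_of_mem hK P ((mem_SR P).1 p.2 n), lead_eq_zero_iff] at this
      exact this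
    have h0 : (p : K[X]).coeff 0 = 0 := by
      have h1 := hmem 0
      have h2 : L (dv P (((0 : ℕ) : ℤ) - 1)) = ⊥ := by
        rw [show dv P (((0 : ℕ) : ℤ) - 1) = -Finsupp.single P 1 by simp [dv]]
        exact FF.L_neg_single hK.1 P
      rw [h2] at h1
      exact (Submodule.mem_bot k).1 h1
    have hq : (p : K[X]).divX ∈ SR P := by
      rw [mem_SR]
      intro n
      rw [coeff_divX]
      have := hmem (n + 1)
      push_cast at this
      rwa [add_sub_cancel_right] at this
    rw [Ideal.mem_span_singleton']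
    refine ⟨⟨_, hq⟩, Subtype.ext ?_⟩
    show (p : K[X]).divX * X = _
    conv_rhs => rw [← divX_mul_X_add (p : K[X]), h0, map_zero, add_zero]
  · rw [Ideal.span_singleton_le_iff_mem]
    exact psi_XS hK P hg

include hK in
/-- the semigroup algebra inside the polynomial ring -/
theorem exists_gen (n : ℕ) (hn : n ∈ poleOrders P) :
    ∃ z : SR P, psi hK P z = monomial n 1 ∧ ∀ m, m ≠ n → (z : K[X]).coeff m = 0 := by
  obtain ⟨x, hx, hx1⟩ := (mem_poleOrders_iff hK P n).1 hn
  have hm : monomial n x ∈ SR P := by
    rw [mem_SR]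
    intro m
    rw [coeff_monomial]
    split_ifs with h
    · subst h; exact hx
    · exact zero_mem _
  refine ⟨⟨_, hm⟩, ?_, fun m hmn => by simp [coeff_monomial, Ne.symm hmn]⟩
  ext m
  rw [coeff_psi, coeff_monomial, coeff_monomial]
  split_ifs with h
  · subst h; exact hx1
  · exact lead'_zero hK P m

/-- inclusion of the semigroup algebra -/
noncomputable def iota :
    AddMonoidAlgebra k ↥(AddSubmonoid.closure (poleOrders P)) →ₐ[k] k[X] :=
  (toFinsuppIsoAlg k).symm.toAlgHom.comp
    (AddMonoidAlgebra.mapDomainAlgHom k k (AddSubmonoid.closure (poleOrders P)).subtype)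

theorem iota_single (h : ↥(AddSubmonoid.closure (poleOrders P))) (r : k) :
    iota P (AddMonoidAlgebra.single h r) = monomial (h : ℕ) r := by
  show (toFinsuppIsoAlg k).symm (AddMonoidAlgebra.mapDomain _ (AddMonoidAlgebra.single h r)) = _
  rw [AddMonoidAlgebra.mapDomain_single, AlgEquiv.symm_apply_eq]
  exact (toFinsupp_monomial (h : ℕ) r).symm

theorem iota_injective : Function.Injective (iota P) :=
  (toFinsuppIsoAlg k).symm.injective.comp (AddMonoidAlgebra.mapDomain_injective Subtype.coe_injective)

include hK in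
theorem psi_range : (psi hK P).range = (iota P).range := by
  apply le_antisymm
  · rintro _ ⟨p, rfl⟩
    show psi hK P p ∈ (iota P).range
    rw [← Polynomial.sum_monomial_eq (psi hK P p)]
    refine Subalgebra.sum_mem _ fun n hn => ?_
    have hn' : n ∈ poleOrders P := by
      by_contra h
      rw [Polynomial.mem_support_iff, coeff_psi, lead'_eq_zero_of_not_mem hK P h] at hn
      exact hn rfl
    exact ⟨AddMonoidAlgebra.single ⟨n, AddSubmonoid.subset_closure hn'⟩ _, iota_single P _ _⟩
  · rintro _ ⟨v, rfl⟩
    show iota P v ∈ (psi hK P).range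
    induction v using AddMonoidAlgebra.induction_on with
    | of h =>
      obtain ⟨z, hz, -⟩ := exists_gen hK P (h : ℕ) ((mem_closure_poleOrders_iff hK P).1 h.2)
      exact ⟨z, hz.trans (iota_single P h 1).symm⟩
    | add a b ha hb => rw [map_add]; exact add_mem ha hb
    | smul c a ha => rw [map_smul]; exact Subalgebra.smul_mem _ ha c

include hK in
theorem nonempty_quot_equiv (hg : 1 ≤ genus k K) :
    Nonempty ((SR P ⧸ Ideal.span {XS hK P}) ≃ₐ[k]
      AddMonoidAlgebra k ↥(AddSubmonoid.closure (poleOrders P))) :=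
  ⟨((Ideal.quotientEquivAlgOfEq k (ker_psi hK P hg).symm).trans
    (Ideal.quotientKerEquivRange (psi hK P))).trans
    ((Subalgebra.equivOfEq _ _ (psi_range hK P)).trans (AlgEquiv.ofInjective _ (iota_injective P)).symm)⟩

theorem prime_XS (hg : 1 ≤ genus k K) : Prime (XS hK P) := by
  rw [← Ideal.span_singleton_prime (fun h => Polynomial.X_ne_zero (congrArg Subtype.val h)),
    ← ker_psi hK P hg]
  exact RingHom.ker_isPrime _

end Groth.Agent.SectR19
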