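import Groth.Agent.SectR19.Grading
import Groth.Agent.SemigroupGor19.Core
import Groth.Agent.GrMod19.Gor.Top
import Groth.Agent.S15018

/-! Gorenstein section rings and symmetric semigroups. -/

open FunFld Groth.Agent.FF30 W4c6gradedringsgw Polynomial
open Groth.Agent.SemigroupGor19 (SG mB IsPF mem_SG)

namespace Groth.Agent.SectR19

universe u

variable {k K : Type u} [Field k] [IsAlgClosed k] [Field K] [Algebra k K]
variable (hK : IsFunctionField k K) (P : Place k K)

set_option linter.unusedSectionVars false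

/-- the semigroup -/
noncomputable def HS : AddSubmonoid ℕ where
  carrier := poleOrders P
  zero_mem' := zero_mem_poleOrders hK P
  add_mem' := add_mem_poleOrders hK P

theorem psi_mem (p : SR P) : psi hK P p ∈ SG k (HS hK P) := by
  intro n hn
  rw [coeff_psi]
  exact lead'_eq_zero_of_not_mem hK P hn _

/-- the degeneration map into the semigroup ring -/
noncomputable def psiS : SR P →ₐ[k] SG k (HS hK P) := (psi hK P).codRestrict _ (psi_mem hK P)

theorem psiS_surjective : Function.Surjective (psiS hK P) := by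
  intro q
  have hq : (q : k[X]) ∈ (psi hK P).range := by
    rw [psi_range hK P, ← Polynomial.sum_monomial_eq (q : k[X])]
    refine Subalgebra.sum_mem _ fun n hn => ?_
    have hn' : n ∈ poleOrders P := by
      by_contra h
      exact Polynomial.mem_support_iff.1 hn (q.2 n h)
    exact ⟨AddMonoidAlgebra.single ⟨n, AddSubmonoid.subset_closure hn'⟩ _, iota_single P _ _⟩
  obtain ⟨p, hp⟩ := hq
  exact ⟨p, Subtype.ext hp⟩

theorem ker_psiS (hg : 1 ≤ genus k K) :
    RingHom.ker (psiS hK P).toRingHom = Ideal.span {XS hK P} := by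
  rw [← ker_psi hK P hg]
  ext p
  simp only [RingHom.mem_ker]
  exact Subtype.ext_iff

theorem gor_congr_loc {A B : Type u} [CommRing A] [CommRing B] (e : A ≃+* B) (q : Ideal B) [q.IsPrime]
    (p : Ideal A) [p.IsPrime] (h : q.comap e.toRingHom = p) :
    LocCoh.IsGorensteinLocalRing (Localization.AtPrime p) ↔
      LocCoh.IsGorensteinLocalRing (Localization.AtPrime q) :=
  Gor18.gor_congr (IsLocalization.ringEquivOfRingEquiv (M := p.primeCompl) (T := q.primeCompl)
    (Localization.AtPrime p) (Localization.AtPrime q) e (by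
      ext x
      subst h
      constructor
      · rintro ⟨a, ha, rfl⟩
        exact ha
      · intro hx
        refine ⟨e.symm x, fun h => hx ?_, e.apply_symm_apply x⟩
        simpa using h))

theorem gor_loc_of_surjective {A B : Type u} [CommRing A] [IsNoetherianRing A] [CommRing B]
    (φ : A →+* B) (hφ : Function.Surjective φ) (f : A) (hker : RingHom.ker φ = Ideal.span {f})
    (hreg : IsSMulRegular A f) (q : Ideal B) [q.IsPrime] (p : Ideal A) [p.IsPrime]
    (h : q.comap φ = p) :
    LocCoh.IsGorensteinLocalRing (Localization.AtPrime p) ↔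
      LocCoh.IsGorensteinLocalRing (Localization.AtPrime q) := by
  let e : (A ⧸ Ideal.span {f}) ≃+* B :=
    (Ideal.quotEquivOfEq hker.symm).trans (RingHom.quotientKerEquivOfSurjective hφ)
  let q' : Ideal (A ⧸ Ideal.span {f}) := q.comap e.toRingHom
  have hq' : q'.IsPrime := Ideal.IsPrime.comap _
  have h1 := gor_congr_loc e q q' rfl
  have h2 := Gor18.gor_atPrime_quotient_iff (f := f) q'
    (Gor18.gorRing_quotient.smulRegular_localization hreg _)
  have hcomap : q'.comap (Ideal.Quotient.mk (Ideal.span {f})) = p := by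
    rw [← h]
    ext x
    rfl
  rw [← h1, h2]
  exact gor_congr_loc (RingEquiv.refl A) _ _ (by rw [hcomap]; rfl)

include hK in
theorem gor_iff (hg : 1 ≤ genus k K) :
    LocCoh.IsGorensteinRing ↥(SR P) ↔ IsSymmetric (poleOrders P) := by
  classical
  have := finiteType_SR hK P hg
  have : IsNoetherianRing (SR P) := Algebra.FiniteType.isNoetherianRing k _
  let H := HS hK P
  have hex : ∃ c, ∀ n, c ≤ n → n ∈ H :=
    ⟨2 * genus k K, fun n hn => mem_poleOrders_of_large hK P hn⟩
  let c := Nat.find hex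
  have hc : ∀ n, c ≤ n → n ∈ H := Nat.find_spec hex
  have hc0 : c ≠ 0 := fun h => one_not_mem_poleOrders hK P hg (hc 1 (by omega))
  have hc1 : c - 1 ∉ H := fun h => Nat.find_min hex (show c - 1 < c by omega) fun n hn => by
    rcases hn.eq_or_lt with rfl | hn'
    · exact h
    · exact hc n (by omega)
  -- Gorenstein is decided in the semigroup ring at the monomial maximal ideal
  have hm := irr_isMaximal hK P
  have hcomap : (mB k H).comap (psiS hK P).toRingHom = irr P := by
    refine (hm.eq_of_le (Ideal.IsPrime.ne_top (Ideal.IsPrime.comap _)) fun p hp => ?_).symm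
    show psiS hK P p ∈ mB k H
    rw [SemigroupGor19.mem_mB]
    show (psi hK P p).coeff 0 = 0
    rw [coeff_psi, (mem_irr P).1 hp, lead'_zero]
  have hreg : IsSMulRegular (SR P) (XS hK P) := fun a b hab =>
    mul_left_cancel₀ (prime_XS hK P hg).ne_zero hab
  have hloc : LocCoh.IsGorensteinLocalRing (Localization.AtPrime (irr P)) ↔
      LocCoh.IsGorensteinLocalRing (Localization.AtPrime (mB k H)) :=
    gor_loc_of_surjective (psiS hK P).toRingHom (psiS_surjective hK P) (XS hK P)
      (ker_psiS hK P hg) hreg (mB k H) (irr P) hcomap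
  have hring : LocCoh.IsGorensteinRing ↥(SR P) ↔
      LocCoh.IsGorensteinLocalRing (Localization.AtPrime (irr P)) := by
    refine ⟨fun h => h.isGorensteinLocalRing_localization _, fun h => ?_⟩
    have : (irrH P).toIdeal.IsPrime := hm.isPrime
    exact GrMod19.Gor.gorenstein_of_star (m := irrH P) (isStarLocal_irrH hK P) h
  rw [hring, hloc, SemigroupGor19.gor_atPrime_iff (k := k) hc hc0 hc1]
  show (∃! f, f ∉ H ∧ ∀ γ, γ ∈ H → γ ≠ 0 → f + γ ∈ H) ↔ _
  rw [← S15018.result H c hc hc0 hc1]
  constructor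
  · intro h
    refine ⟨((c - 1 : ℕ) : ℤ), fun n => ⟨?_, fun hn => ?_⟩⟩
    · rintro ⟨a, ha, rfl⟩ ⟨b, hb, hbe⟩
      have hb' : b = c - 1 - a := by omega
      exact ((h a (by omega)).2 (hb' ▸ hb)) ha
    · rcases lt_or_ge n 0 with hn0 | hn0
      · exact absurd ⟨((c - 1 : ℕ) - n : ℤ).toNat, hc _ (by omega), by omega⟩ hn
      lift n to ℕ using hn0
      refine ⟨n, ?_, rfl⟩
      by_contra hnH
      have hlt : n < c := by_contra fun h' => hnH (hc n (by omega))
      exact hn ⟨c - 1 - n, (h n hlt).1 hnH, by omega⟩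
  · rintro ⟨d, hd⟩
    have hneg : ∀ j : ℕ, j ≠ 0 → ∃ h ∈ poleOrders P, (h : ℤ) = d + j := fun j hj => by
      by_contra hne
      obtain ⟨a, ha, hae⟩ := (hd (-(j : ℤ))).2 (by simpa using hne)
      omega
    have hd0 : ∀ a ∈ poleOrders P, (a : ℤ) ≠ d := fun a ha hae =>
      (hd 0).1 ⟨0, zero_mem_poleOrders hK P, rfl⟩ ⟨a, ha, by omega⟩
    have hdn : d = ((c - 1 : ℕ) : ℤ) := by
      rcases lt_trichotomy d ((c - 1 : ℕ) : ℤ) with hlt | heq | hgt
      · obtain ⟨a, ha, hae⟩ := hneg ((((c - 1 : ℕ) : ℤ) - d).toNat) (by omega)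
        exact absurd (show (c - 1) ∈ H from (show a = c - 1 by omega) ▸ ha) hc1
      · exact heq
      · exact absurd (show (d.toNat : ℤ) = d by omega) (hd0 d.toNat (hc _ (by omega)))
    subst hdn
    intro x hx
    constructor
    · intro hxH
      obtain ⟨a, ha, hae⟩ := not_not.1 (mt (hd (x : ℤ)).2 (fun ⟨a, ha, hae⟩ => hxH ((Nat.cast_injective hae : a = x) ▸ ha)))
      rwa [show c - 1 - x = a by omega]
    · intro h1 h2
      exact (hd (x : ℤ)).1 ⟨x, h2, rfl⟩ ⟨_, h1, by omega⟩

end Groth.Agent.SectR19
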