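import Groth.Agent.SectR19.Psi
import Mathlib.RingTheory.Finiteness.Basic
import Mathlib.Algebra.Module.SpanRank
import Mathlib.Data.Set.Card

/-! Minimal generators of the irrelevant ideal of the section ring. -/

open FunFld Groth.Agent.FF30 W4c6gradedringsgw Polynomial

namespace Groth.Agent.SectR19

universe u

variable {k K : Type u} [Field k] [IsAlgClosed k] [Field K] [Algebra k K]
variable (hK : IsFunctionField k K) (P : Place k K)

set_option linter.unusedSectionVars false

include hK in
theorem finite_minGens : (minGens (poleOrders P)).Finite := by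
  refine (Set.finite_Iio (4 * genus k K + 2)).subset fun h hh => ?_
  by_contra hlt
  rw [Set.mem_Iio, not_lt] at hlt
  exact hh.2.2 _ (mem_poleOrders_of_large hK P (n := 2 * genus k K + 1) (by omega)) _
    (mem_poleOrders_of_large hK P (n := h - (2 * genus k K + 1)) (by omega)) (by omega) (by omega)
    (by omega)

/-- the irrelevant ideal -/
noncomputable abbrev irr : Ideal (SR P) :=
  RingHom.ker (Polynomial.constantCoeff.comp (SR P).val.toRingHom)

theorem mem_irr {p : SR P} : p ∈ irr P ↔ (p : K[X]).coeff 0 = 0 := Iff.rfl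

include hK in
theorem exists_span (hg : 1 ≤ genus k K) :
    ∃ s : Set (SR P), s.Finite ∧ s.ncard ≤ (minGens (poleOrders P)).ncard + 1 ∧
      Ideal.span s = irr P := by
  classical
  let G := minGens (poleOrders P)
  choose z hz hzc using fun n : G => exists_gen hK P n.1 n.2.1
  have hGfin := finite_minGens hK P
  have : Fintype G := hGfin.fintype
  let s : Set (SR P) := insert (XS hK P) (Set.range z)
  have hX : XS hK P ∈ irr P := (mem_irr P).2 (by simp [XS])
  have hz0 : ∀ n : G, z n ∈ irr P := fun n => (mem_irr P).2 (hzc n 0 (Ne.symm n.2.2.1))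
  have hmono : ∀ n : ℕ, n ∈ poleOrders P → n ≠ 0 →
      ∃ w ∈ Ideal.span s, psi hK P w = monomial n 1 := by
    intro n
    induction n using Nat.strong_induction_on with
    | _ n ih =>
      intro hn hn0
      by_cases hG : n ∈ G
      · exact ⟨z ⟨n, hG⟩, Ideal.subset_span (Set.mem_insert_of_mem _ ⟨_, rfl⟩), hz ⟨n, hG⟩⟩
      · simp only [G, minGens, Set.mem_ofPred_eq, hn, ne_eq, hn0, not_false_eq_true, true_and,
          not_forall, not_not] at hG
        obtain ⟨a, ha, b, hb, ha0, hb0, rfl⟩ := hG
        obtain ⟨w, hw, hw1⟩ := ih a (by omega) ha ha0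
        obtain ⟨v, -, hv1⟩ := ih b (by omega) hb hb0
        exact ⟨w * v, Ideal.mul_mem_right _ _ hw,
          by rw [map_mul, hw1, hv1, monomial_mul_monomial, mul_one]⟩
  refine ⟨s, (Set.finite_range z).insert _, ?_, le_antisymm ?_ fun p hp => ?_⟩
  · refine (Set.ncard_insert_le _ _).trans (Nat.add_le_add_right ?_ 1)
    rw [← Set.image_univ]
    refine (Set.ncard_image_le Set.finite_univ).trans (le_of_eq ?_)
    rw [Set.ncard_univ, Nat.card_coe_set_eq]
  · rw [Ideal.span_le, Set.insert_subset_iff]
    exact ⟨hX, Set.range_subset_iff.2 hz0⟩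
  · have : ∃ w ∈ Ideal.span s, psi hK P w = psi hK P p := by
      rw [← Polynomial.sum_monomial_eq (psi hK P p)]
      apply Finset.induction_on (psi hK P p).support
        (motive := fun t => (t ⊆ (psi hK P p).support → ∃ w ∈ Ideal.span s,
          psi hK P w = ∑ n ∈ t, monomial n ((psi hK P p).coeff n))) ?_ ?_ (subset_refl _)
      · exact fun _ => ⟨0, zero_mem _, by simp⟩
      · intro n t hnt ih hsub
        obtain ⟨w, hw, hw1⟩ := ih (fun m hm => hsub (Finset.mem_insert_of_mem hm))
        have hn := Polynomial.mem_support_iff.1 (hsub (Finset.mem_insert_self n t))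
        have hnH : n ∈ poleOrders P := by
          by_contra h
          rw [coeff_psi, lead'_eq_zero_of_not_mem hK P h] at hn
          exact hn rfl
        have hn0 : n ≠ 0 := by
          rintro rfl
          rw [coeff_psi, (mem_irr P).1 hp, lead'_zero] at hn
          exact hn rfl
        obtain ⟨v, hv, hv1⟩ := hmono n hnH hn0
        refine ⟨(psi hK P p).coeff n • v + w, add_mem (Submodule.smul_of_tower_mem _ _ hv) hw, ?_⟩
        rw [map_add, map_smul, hv1, hw1, smul_monomial, smul_eq_mul, mul_one, Finset.sum_insert hnt]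
    obtain ⟨w, hw, hwp⟩ := this
    have hk : p - w ∈ RingHom.ker (psi hK P).toRingHom := by
      rw [RingHom.mem_ker]
      show psi hK P (p - w) = 0
      rw [map_sub, hwp, sub_self]
    rw [ker_psi hK P hg] at hk
    have := add_mem (Ideal.span_mono (Set.singleton_subset_iff.2 (Set.mem_insert _ _)) hk) hw
    simpa using this

include hK in
theorem le_spanFinrank (hg : 1 ≤ genus k K) :
    (minGens (poleOrders P)).ncard + 1 ≤ (irr P).spanFinrank := by
  classical
  let G := minGens (poleOrders P)
  have hGfin := finite_minGens hK P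
  have : Fintype G := hGfin.fintype
  obtain ⟨s0, hs0, -, hspan0⟩ := exists_span hK P hg
  have hfg : (irr P).FG := hspan0 ▸ Submodule.fg_span hs0
  obtain ⟨s, hscard, hspan⟩ := Submodule.FG.exists_span_set_encard_eq_spanFinrank hfg
  have hsfin : s.Finite := Set.finite_of_encard_eq_coe hscard
  -- functionals vanishing on products
  let φ : SR P → (Option G → k) := fun p o =>
    o.elim (lead' hK P 0 ((p : K[X]).coeff 1)) (fun n => (psi hK P p).coeff n.1)
  have hL1 : ∀ p : SR P, (p : K[X]).coeff 1 ∈ L (dv P (0 : ℕ)) := fun p => by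
    have := (mem_SR P).1 p.2 1
    rw [show ((1 : ℕ) : ℤ) = 1 from rfl, L_dv_one hK P hg, ← L_dv_zero hK P] at this
    exact this
  have hψ0 : ∀ p : SR P, p ∈ irr P → (psi hK P p).coeff 0 = 0 := fun p hp => by
    rw [coeff_psi, (mem_irr P).1 hp, lead'_zero]
  have hφadd : ∀ p q, φ (p + q) = φ p + φ q := fun p q => by
    funext o
    rcases o with _ | n
    · simp only [φ, Option.elim, Pi.add_apply, AddMemClass.coe_add, Polynomial.coeff_add]
      exact lead'_add hK P (hL1 p) (hL1 q)
    · simp [φ]
  have hφmul : ∀ r p : SR P, p ∈ irr P →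
      φ (r * p) = lead' hK P 0 ((r : K[X]).coeff 0) • φ p := by
    intro r p hp
    funext o
    rcases o with _ | n
    · simp only [φ, Option.elim, Pi.smul_apply, MulMemClass.coe_mul, smul_eq_mul]
      rw [coeff_mul, Finset.Nat.antidiagonal_succ, Finset.sum_cons, Finset.Nat.antidiagonal_zero,
        Finset.map_singleton, Finset.sum_singleton]
      simp only [Function.Embedding.coe_prodMap, Function.Embedding.coeFn_mk, Prod.map_apply,
        Nat.succ_eq_add_one, Function.Embedding.refl_apply, zero_add, (mem_irr P).1 hp, mul_zero,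
        add_zero]
      exact lead'_mul hK P (a := 0) (b := 0) ((mem_SR P).1 r.2 0) (hL1 p)
    · simp only [φ, Option.elim, Pi.smul_apply, smul_eq_mul, map_mul]
      rw [coeff_mul, Finset.sum_eq_single (0, n.1) ?_ (by simp), coeff_psi hK P r 0]
      rintro ⟨a, b⟩ hab hne
      rw [Finset.mem_antidiagonal] at hab
      simp only at hab ⊢
      by_contra h
      have ha : a ≠ 0 := fun ha => hne (by simp [ha, show b = n.1 by omega])
      have hb : b ≠ 0 := fun hb => h (by rw [hb, hψ0 p hp, mul_zero])
      have haH : a ∈ poleOrders P := by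
        by_contra hh
        exact h (by rw [coeff_psi, lead'_eq_zero_of_not_mem hK P hh, zero_mul])
      have hbH : b ∈ poleOrders P := by
        by_contra hh
        exact h (by rw [coeff_psi hK P p b, lead'_eq_zero_of_not_mem hK P hh, mul_zero])
      exact n.2.2.2 a haH b hbH ha hb hab
  have hφ0 : φ 0 = 0 := by
    have := hφadd 0 0
    simpa using this
  have hmem : ∀ p ∈ irr P, φ p ∈ Submodule.span k (φ '' s) := by
    intro p hp
    have hp' : p ∈ Submodule.span (SR P) s := hspan.symm ▸ hp
    have key : p ∈ irr P ∧ φ p ∈ Submodule.span k (φ '' s) := by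
      clear hp
      induction hp' using Submodule.span_induction with
      | mem x hx => exact ⟨hspan ▸ Submodule.subset_span hx, Submodule.subset_span ⟨x, hx, rfl⟩⟩
      | zero => exact ⟨zero_mem _, by rw [hφ0]; exact zero_mem _⟩
      | add x y _ _ hx hy => exact ⟨add_mem hx.1 hy.1, by rw [hφadd]; exact add_mem hx.2 hy.2⟩
      | smul r x _ hx =>
        refine ⟨Ideal.mul_mem_left _ _ hx.1, ?_⟩
        rw [smul_eq_mul, hφmul r x hx.1]
        exact Submodule.smul_mem _ _ hx.2
    exact key.2
  have htop : Submodule.span k (φ '' s) = ⊤ := by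
    rw [eq_top_iff, ← (Pi.basisFun k (Option G)).span_eq, Submodule.span_le]
    rintro _ ⟨o, rfl⟩
    rw [Pi.basisFun_apply]
    rcases o with _ | n
    · have hX : XS hK P ∈ irr P := (mem_irr P).2 (by simp [XS])
      rw [SetLike.mem_coe, show (Pi.single none 1 : Option G → k) = φ (XS hK P) from ?_]
      · exact hmem _ hX
      funext o
      rcases o with _ | m
      · simp [φ, XS]
        exact ((lead'_of_mem hK P (n := 0) (one_mem_L P)).trans (lead_one hK P)).symm
      · simp [φ, psi_XS hK P hg]
    · obtain ⟨z, hz, hzc⟩ := exists_gen hK P n.1 n.2.1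
      rw [SetLike.mem_coe, show (Pi.single (some n) 1 : Option G → k) = φ z from ?_]
      · exact hmem z ((mem_irr P).2 (hzc 0 (Ne.symm n.2.2.1)))
      funext o
      rcases o with _ | m
      · have h1 : (1 : ℕ) ≠ n.1 := fun h => one_not_mem_poleOrders hK P hg (h ▸ n.2.1)
        simp [φ, hzc 1 h1, lead'_zero]
      · simp [φ, hz, coeff_monomial, Pi.single_apply, Subtype.ext_iff, eq_comm]
  have h1 : Fintype.card (Option G) ≤ (φ '' s).ncard := by
    have : Fintype (φ '' s) := (hsfin.image φ).fintype
    have h2 := finrank_span_le_card (R := k) (φ '' s)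
    rw [htop, finrank_top, Module.finrank_pi] at h2
    rwa [Set.ncard_eq_toFinset_card']
  rw [Fintype.card_option, ← Nat.card_eq_fintype_card, Nat.card_coe_set_eq] at h1
  refine h1.trans ((Set.ncard_image_le hsfin).trans (le_of_eq ?_))
  rw [Set.ncard, hscard, ENat.toNat_natCast]

include hK in
theorem spanFinrank_irr (hg : 1 ≤ genus k K) :
    (irr P).spanFinrank = (minGens (poleOrders P)).ncard + 1 := by
  refine le_antisymm ?_ (le_spanFinrank hK P hg)
  obtain ⟨s, hs, hcard, hspan⟩ := exists_span hK P hg
  rw [← hspan]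
  exact (Submodule.spanFinrank_span_le_ncard_of_finite hs).trans hcard

end Groth.Agent.SectR19
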