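import Groth.Agent.SectR19.Gens
import Groth.Prelude.Def_GrLC
import Mathlib.RingTheory.FiniteType
import Mathlib.RingTheory.GradedAlgebra.Homogeneous.Ideal
import Mathlib.Algebra.DirectSum.Decomposition

/-! The grading of the section ring, and its finite generation. -/

open FunFld Groth.Agent.FF30 W4c6gradedringsgw Polynomial DirectSum

namespace Groth.Agent.SectR19

universe u

variable {k K : Type u} [Field k] [IsAlgClosed k] [Field K] [Algebra k K]
variable (hK : IsFunctionField k K) (P : Place k K)

set_option linter.unusedSectionVars false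

/-- the pieces -/
noncomputable def piece (n : ℤ) : AddSubgroup (SR P) where
  carrier := {p | ∀ m : ℕ, (m : ℤ) ≠ n → (p : K[X]).coeff m = 0}
  zero_mem' m _ := by simp
  add_mem' {p q} hp hq m hm := by rw [AddMemClass.coe_add, coeff_add, hp m hm, hq m hm, add_zero]
  neg_mem' {p} hp m hm := by rw [NegMemClass.coe_neg, coeff_neg, hp m hm, neg_zero]

theorem mem_piece {n : ℤ} {p : SR P} :
    p ∈ piece P n ↔ ∀ m : ℕ, (m : ℤ) ≠ n → (p : K[X]).coeff m = 0 := Iff.rfl

instance gradedMonoid : SetLike.GradedMonoid (piece P) where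
  one_mem m hm := by
    rw [OneMemClass.coe_one, coeff_one, if_neg]
    rintro rfl
    exact hm rfl
  mul_mem i j p q hp hq m hm := by
    rw [MulMemClass.coe_mul, coeff_mul]
    refine Finset.sum_eq_zero fun x hx => ?_
    rw [Finset.HasAntidiagonal.mem_antidiagonal] at hx
    by_cases h1 : (x.1 : ℤ) = i
    · rw [hq x.2 (fun h => hm (by omega)), mul_zero]
    · rw [hp x.1 h1, zero_mul]

theorem coeff_coe (x : ⨁ n, piece P n) (m : ℕ) :
    ((DirectSum.coeAddMonoidHom (piece P) x : SR P) : K[X]).coeff m =
      ((x (m : ℤ) : SR P) : K[X]).coeff m := by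
  induction x using DirectSum.induction_on with
  | zero => simp
  | of i y =>
    rw [DirectSum.coeAddMonoidHom_of]
    by_cases h : i = (m : ℤ)
    · subst h; rw [DirectSum.of_eq_same]
    · rw [DirectSum.of_eq_of_ne _ _ _ (Ne.symm h)]
      simpa using y.2 m (Ne.symm h)
  | add a b ha hb =>
    rw [map_add, AddMemClass.coe_add, coeff_add, ha, hb, DirectSum.add_apply]
    simp

theorem monomial_mem_SR {n : ℕ} {x : K} (hx : x ∈ L (dv P (n : ℤ))) : monomial n x ∈ SR P := by
  rw [mem_SR]
  intro m
  rw [coeff_monomial]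
  split_ifs with h
  · subst h; exact hx
  · exact zero_mem _

/-- monomial -/
noncomputable def monS {n : ℕ} {x : K} (hx : x ∈ L (dv P (n : ℤ))) : SR P :=
  ⟨monomial n x, monomial_mem_SR P hx⟩

theorem monS_mem_piece {n : ℕ} {x : K} (hx : x ∈ L (dv P (n : ℤ))) :
    monS P hx ∈ piece P (n : ℤ) := fun m hm => by
  show (monomial n x).coeff m = 0
  rw [coeff_monomial, if_neg (fun h => hm (by rw [h]))]

theorem eq_sum_monS (p : SR P) :
    p = ∑ n ∈ (p : K[X]).support, monS P (n := n) ((mem_SR P).1 p.2 n) := by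
  apply Subtype.ext
  rw [AddSubmonoidClass.coe_finsetSum]
  exact (p : K[X]).as_sum_support

theorem isInternal_piece : DirectSum.IsInternal (piece P) := by
  refine ⟨fun x y hxy => ?_, fun p => ⟨∑ n ∈ (p : K[X]).support,
    DirectSum.of (fun i => ↥(piece P i)) (n : ℤ)
      ⟨monS P ((mem_SR P).1 p.2 n), monS_mem_piece P _⟩, ?_⟩⟩
  · refine DFinsupp.ext fun i => Subtype.ext (Subtype.ext (Polynomial.ext fun m => ?_))
    by_cases h : (m : ℤ) = i
    · subst h
      rw [← coeff_coe P x m, ← coeff_coe P y m, hxy]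
    · rw [(x i).2 m h, (y i).2 m h]
  · rw [map_sum]
    simp only [DirectSum.coeAddMonoidHom_of]
    exact (eq_sum_monS P p).symm

noncomputable instance gradedRing : GradedRing (piece P) :=
  { gradedMonoid P, (isInternal_piece P).chooseDecomposition _ with }

include hK in
theorem const_of_mem_zero {x : K} (hx : x ∈ L (dv P 0)) : ∃ c : k, algebraMap k K c = x := by
  rw [L_dv_zero hK P, Submodule.mem_one] at hx
  exact hx

include hK in
theorem irr_isMaximal : (irr P).IsMaximal := by
  have h : ∀ x : SR P, x ∉ irr P → ∃ y : SR P, 1 - y * x ∈ irr P := fun x hx => by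
    rw [mem_irr] at hx
    obtain ⟨c, hc⟩ := const_of_mem_zero hK P (x := (x : K[X]).coeff 0) (by
      simpa using (mem_SR P).1 x.2 0)
    refine ⟨algebraMap k (SR P) c⁻¹, ?_⟩
    rw [mem_irr, AddSubgroupClass.coe_sub, MulMemClass.coe_mul, OneMemClass.coe_one,
      Subalgebra.coe_algebraMap, Polynomial.algebraMap_apply, coeff_sub, coeff_one_zero, coeff_C_mul,
      ← hc, ← map_mul, inv_mul_cancel₀ (fun h => hx (by rw [← hc, h, map_zero])), map_one, sub_self]
  refine Ideal.isMaximal_iff.2 ⟨fun h1 => ?_, fun J x hJ hx hxJ => ?_⟩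
  · rw [mem_irr, OneMemClass.coe_one, coeff_one_zero] at h1
    exact one_ne_zero h1
  · obtain ⟨y, hy⟩ := h x hx
    simpa using add_mem (hJ hy) (J.mul_mem_left y hxJ)

theorem isHomogeneous_irr : (irr P).IsHomogeneous (piece P) := by
  intro i p hp
  rw [mem_irr] at hp ⊢
  by_cases h : i = ((0 : ℕ) : ℤ)
  · subst h
    have := coeff_coe P (DirectSum.decompose (piece P) p) 0
    rw [show DirectSum.coeAddMonoidHom (piece P) (DirectSum.decompose (piece P) p) = p from
      DirectSum.Decomposition.left_inv p, hp] at this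
    exact this.symm
  · exact (DirectSum.decompose (piece P) p i).2 0 (Ne.symm h)

/-- the irrelevant ideal, homogeneous -/
noncomputable def irrH : HomogeneousIdeal (piece P) := ⟨irr P, isHomogeneous_irr P⟩

include hK in
theorem isStarLocal_irrH : GrLC.IsStarLocal (piece P) (irrH P) := by
  have hne : irrH P ≠ ⊤ := fun h => (irr_isMaximal hK P).ne_top
    ((congrArg HomogeneousIdeal.toIdeal h).trans HomogeneousIdeal.toIdeal_top)
  have hle : ∀ J : HomogeneousIdeal (piece P), J ≠ ⊤ → J ≤ irrH P := by
    intro J hJ p hp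
    show p ∈ irr P
    rw [mem_irr]
    by_contra h0
    apply hJ
    rw [HomogeneousIdeal.eq_top_iff]
    refine Ideal.eq_top_of_isUnit_mem _ (J.isHomogeneous ((0 : ℕ) : ℤ) hp) ?_
    obtain ⟨c, hc⟩ := const_of_mem_zero hK P (x := (p : K[X]).coeff 0) (by
      simpa using (mem_SR P).1 p.2 0)
    have : ((DirectSum.decompose (piece P) p ((0 : ℕ) : ℤ) : SR P)) = algebraMap k (SR P) c := by
      apply Subtype.ext
      ext m
      rw [Subalgebra.coe_algebraMap, Polynomial.algebraMap_apply, coeff_C]
      split_ifs with hm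
      · subst hm
        have := coeff_coe P (DirectSum.decompose (piece P) p) 0
        rw [show DirectSum.coeAddMonoidHom (piece P) (DirectSum.decompose (piece P) p) = p from
          DirectSum.Decomposition.left_inv p] at this
        rw [hc, ← this]
      · exact (DirectSum.decompose (piece P) p _).2 m (by exact_mod_cast hm)
    rw [this]
    exact (IsUnit.mk0 c (fun h => h0 (by rw [← hc, h, map_zero]))).map _
  exact ⟨⟨hne, fun J hJ => by_contra fun h => (lt_irrefl _) (hJ.trans_le (hle J h))⟩,
    fun J hJ => ((hle J hJ.1).lt_or_eq.resolve_left fun h => hne (hJ.2 _ h))⟩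

include hK in
theorem finiteType_SR (hg : 1 ≤ genus k K) : Algebra.FiniteType k (SR P) := by
  classical
  let G := minGens (poleOrders P)
  choose x hx hx1 using fun n : G => (mem_poleOrders_iff hK P n.1).1 n.2.1
  have hGfin := finite_minGens hK P
  have : Fintype G := hGfin.fintype
  let s : Set (SR P) := insert (XS hK P) (Set.range fun n : G => monS P (hx n))
  let A := Algebra.adjoin k s
  have hgen : ∀ n, n ∈ poleOrders P → ∃ (y : K) (hy : y ∈ L (dv P (n : ℤ))),
      lead' hK P n y = 1 ∧ monS P hy ∈ A := by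
    intro n
    induction n using Nat.strong_induction_on with
    | _ n ih =>
      intro hn
      by_cases hG : n ∈ G
      · exact ⟨x ⟨n, hG⟩, hx ⟨n, hG⟩, hx1 ⟨n, hG⟩,
          Algebra.subset_adjoin (Set.mem_insert_of_mem _ ⟨⟨n, hG⟩, rfl⟩)⟩
      by_cases hn0 : n = 0
      · subst hn0
        refine ⟨1, one_mem_L P, (lead'_of_mem hK P (n := 0) (one_mem_L P)).trans (lead_one hK P), ?_⟩
        convert one_mem A using 1
        exact Subtype.ext (monomial_zero_left.trans C_1)
      · simp only [G, minGens, Set.mem_ofPred_eq, hn, ne_eq, hn0, not_false_eq_true, true_and,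
          not_forall, not_not] at hG
        obtain ⟨a, ha, b, hb, ha0, hb0, rfl⟩ := hG
        obtain ⟨y, hy, hy1, hyA⟩ := ih a (by omega) ha
        obtain ⟨w, hw, hw1, hwA⟩ := ih b (by omega) hb
        refine ⟨y * w, by push_cast; exact mul_mem_L_dv hy hw,
          by rw [lead'_mul hK P hy hw, hy1, hw1, mul_one], ?_⟩
        convert mul_mem hyA hwA using 1
        exact Subtype.ext (monomial_mul_monomial a b y w).symm
  have hall : ∀ (n : ℕ) (y : K) (hy : y ∈ L (dv P (n : ℤ))), monS P hy ∈ A := by
    intro n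
    induction n with
    | zero =>
      intro y hy
      obtain ⟨c, hc⟩ := const_of_mem_zero hK P hy
      have : monS P hy = algebraMap k (SR P) c := Subtype.ext (by
        show monomial 0 y = _
        rw [monomial_zero_left, ← hc, Subalgebra.coe_algebraMap, Polynomial.algebraMap_apply])
      rw [this]
      exact A.algebraMap_mem c
    | succ n ih =>
      intro y hy
      obtain ⟨z, hz, hz1, hzA⟩ : ∃ (z : K) (hz : z ∈ L (dv P ((n + 1 : ℕ) : ℤ))),
          lead' hK P (n + 1) z = lead' hK P (n + 1) y ∧ monS P hz ∈ A := by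
        by_cases hn : n + 1 ∈ poleOrders P
        · obtain ⟨z, hz, hz1, hzA⟩ := hgen _ hn
          refine ⟨lead' hK P (n + 1) y • z, Submodule.smul_mem _ _ hz, ?_, ?_⟩
          · rw [lead'_of_mem hK P (Submodule.smul_mem _ _ hz)]
            rw [lead'_of_mem hK P hz] at hz1
            exact (map_smul (lead hK P _) (lead' hK P (n + 1) y) ⟨z, hz⟩).trans (by
              rw [hz1, smul_eq_mul, mul_one])
          · convert A.smul_mem hzA (lead' hK P (n + 1) y) using 1
            exact Subtype.ext (smul_monomial _ _ _).symm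
        · exact ⟨0, zero_mem _, by rw [lead'_zero, lead'_eq_zero_of_not_mem hK P hn], by
            convert zero_mem A using 1
            exact Subtype.ext (map_zero (monomial (n + 1)))⟩
      have hd : y - z ∈ L (dv P (n : ℤ)) := by
        have h0 : lead hK P ((n + 1 : ℕ) : ℤ) ⟨y - z, sub_mem hy hz⟩ = 0 := by
          rw [lead'_of_mem hK P hy, lead'_of_mem hK P hz] at hz1
          rw [show (⟨y - z, sub_mem hy hz⟩ : L (dv P ((n + 1 : ℕ) : ℤ))) = ⟨y, hy⟩ - ⟨z, hz⟩ from rfl,
            map_sub, hz1, sub_self]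
        have := (lead_eq_zero_iff hK P _ _).1 h0
        simpa using this
      have e : monS P hy = monS P hz + XS hK P * monS P hd := Subtype.ext (by
        show monomial (n + 1) y = monomial (n + 1) z + X * monomial n (y - z)
        rw [X_mul_monomial, ← map_add, add_sub_cancel])
      rw [e]
      exact add_mem hzA (mul_mem (Algebra.subset_adjoin (Set.mem_insert _ _)) (ih _ hd))
  refine ⟨Subalgebra.fg_def.2 ⟨s, (Set.finite_range _).insert _, top_le_iff.1 fun p _ => ?_⟩⟩
  rw [eq_sum_monS P p]
  exact sum_mem fun n _ => hall n _ _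

end Groth.Agent.SectR19
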