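import Groth.Prelude.Def_W4c6gradedringsgwSect
import Groth.Agent.FF30.Rational
import Groth.Agent.FF30.RR
import Mathlib.FieldTheory.IsAlgClosed.Basic

/-! Leading coefficients at a degree one place; the pole semigroup. -/

open FunFld WithZero Groth.Agent.FF30 W4c6gradedringsgw

namespace Groth.Agent.SectR19

universe u

variable {k K : Type u} [Field k] [IsAlgClosed k] [Field K] [Algebra k K]

set_option linter.unusedSectionVars false

/-- the divisor `n P` -/
noncomputable abbrev dv (P : Place k K) (n : ℤ) : Divisor k K :=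
  n • (Finsupp.single P 1 : Divisor k K)

theorem dv_apply_self (P : Place k K) (n : ℤ) : dv P n P = n := by simp [dv]

theorem mem_L_dv {P : Place k K} {n : ℤ} {x : K} :
    x ∈ L (dv P n) ↔ P.1 x ≤ exp n ∧ ∀ Q : Place k K, Q ≠ P → Q.1 x ≤ 1 := by
  classical
  rw [mem_L]
  constructor
  · intro h
    refine ⟨by simpa [dv] using h P, fun Q hQ => ?_⟩
    have := h Q
    simpa [dv, Finsupp.single_eq_of_ne hQ, exp_zero] using this
  · rintro ⟨h1, h2⟩ Q
    rcases eq_or_ne Q P with rfl | hQ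
    · simpa [dv] using h1
    · simpa [dv, Finsupp.single_eq_of_ne hQ, exp_zero] using h2 Q hQ

theorem mul_mem_L_dv {P : Place k K} {n m : ℤ} {x y : K} (hx : x ∈ L (dv P n)) (hy : y ∈ L (dv P m)) :
    x * y ∈ L (dv P (n + m)) := by
  have := mul_mem_L hx hy
  rwa [← add_smul] at this

variable (hK : IsFunctionField k K) (P : Place k K)

include hK in
theorem bijective_algebraMap_res :
    Function.Bijective (Algebra.ofId k (IsLocalRing.ResidueField P.O)) := by
  have h : @Module.Finite k (IsLocalRing.ResidueField P.O) _ _ Algebra.toModule :=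
    FF.finite_residueField hK.1 P
  have : Algebra.IsIntegral k (IsLocalRing.ResidueField P.O) := @Algebra.IsIntegral.of_finite k _ _ _ _ h
  exact IsAlgClosed.algebraMap_bijective_of_isIntegral

/-- the residue field is `k` -/
noncomputable def resK : IsLocalRing.ResidueField P.O →ₐ[k] k :=
  (AlgEquiv.ofBijective (Algebra.ofId k (IsLocalRing.ResidueField P.O))
    (bijective_algebraMap_res hK P)).symm.toAlgHom

theorem resK_injective : Function.Injective (resK hK P) := AlgEquiv.injective _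

include hK in
theorem deg_eq_one : P.deg = 1 := by
  unfold Place.deg
  exact ((AlgEquiv.ofBijective (Algebra.ofId k (IsLocalRing.ResidueField P.O))
    (bijective_algebraMap_res hK P)).toLinearEquiv.finrank_eq.symm.trans (Module.finrank_self k) :)

/-- an element with a simple pole at `P` -/
noncomputable def pol : K := (exists_val_eq P 1).choose

theorem pol_zpow_val (n : ℤ) : P.1 (pol P ^ n) = exp n := by
  rw [map_zpow₀, show P.1 (pol P) = exp 1 from (exists_val_eq P 1).choose_spec.2, ← exp_zsmul]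
  simp

theorem pol_ne_zero : pol P ≠ 0 := (exists_val_eq P 1).choose_spec.1

/-- the leading coefficient at `P` -/
noncomputable def lead (n : ℤ) : L (dv P n) →ₗ[k] k where
  toFun x := resK hK P (resMap P n (pol_zpow_val P n) ⟨(x : K), (mem_L_dv.1 x.2).1⟩)
  map_add' x y := by
    rw [← map_add, ← map_add]
    rfl
  map_smul' c x := by
    rw [RingHom.id_apply, ← map_smul (resK hK P)]
    congr 1
    exact Eq.trans (map_smul (resMap P n (pol_zpow_val P n)) c ⟨(x : K), (mem_L_dv.1 x.2).1⟩) rfl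

theorem lead_apply (n : ℤ) (x : L (dv P n)) :
    lead hK P n x = resK hK P (resMap P n (pol_zpow_val P n) ⟨(x : K), (mem_L_dv.1 x.2).1⟩) := rfl

theorem lead_eq_zero_iff (n : ℤ) (x : L (dv P n)) :
    lead hK P n x = 0 ↔ (x : K) ∈ L (dv P (n - 1)) := by
  rw [lead_apply, map_eq_zero_iff _ (resK_injective hK P), resMap_eq_zero_iff]
  exact ⟨fun h => mem_L_dv.2 ⟨h, (mem_L_dv.1 x.2).2⟩, fun h => (mem_L_dv.1 h).1⟩

theorem lead_mul {n m : ℤ} (x : L (dv P n)) (y : L (dv P m)) :
    lead hK P (n + m) ⟨(x : K) * y, mul_mem_L_dv x.2 y.2⟩ = lead hK P n x * lead hK P m y := by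
  rw [lead_apply, lead_apply, lead_apply, ← map_mul]
  congr 1
  change IsLocalRing.residue P.O _ = IsLocalRing.residue P.O _ * IsLocalRing.residue P.O _
  rw [← map_mul]
  congr 1
  apply Subtype.ext
  change (x : K) * y * (pol P ^ (n + m))⁻¹ = ((x : K) * (pol P ^ n)⁻¹) * ((y : K) * (pol P ^ m)⁻¹)
  rw [zpow_add₀ (pol_ne_zero P), mul_inv]
  ring

theorem one_mem_L : (1 : K) ∈ L (dv P 0) := by
  exact mem_L_dv.2 ⟨by rw [map_one, exp_zero], fun Q _ => (map_one Q.1).le⟩

theorem lead_one : lead hK P 0 ⟨1, one_mem_L P⟩ = 1 := by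
  rw [lead_apply, show resMap P 0 (pol_zpow_val P 0) _ = (1 : IsLocalRing.ResidueField P.O) from ?_, map_one]
  change IsLocalRing.residue P.O _ = 1
  rw [← map_one (IsLocalRing.residue P.O)]
  congr 1
  exact Subtype.ext (by simp)

/-- the leading coefficient as a function on all of `K` -/
noncomputable def lead' (n : ℕ) (x : K) : k :=
  open Classical in if h : x ∈ L (dv P (n : ℤ)) then lead hK P n ⟨x, h⟩ else 0

theorem lead'_of_mem {n : ℕ} {x : K} (h : x ∈ L (dv P (n : ℤ))) :
    lead' hK P n x = lead hK P n ⟨x, h⟩ := dif_pos h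

theorem lead'_zero (n : ℕ) : lead' hK P n 0 = 0 := by
  rw [lead'_of_mem hK P (zero_mem _), show (⟨0, zero_mem _⟩ : L (dv P (n : ℤ))) = 0 from rfl, map_zero]

theorem lead'_add {n : ℕ} {x y : K} (hx : x ∈ L (dv P (n : ℤ))) (hy : y ∈ L (dv P (n : ℤ))) :
    lead' hK P n (x + y) = lead' hK P n x + lead' hK P n y := by
  rw [lead'_of_mem hK P hx, lead'_of_mem hK P hy, lead'_of_mem hK P (add_mem hx hy), ← map_add]
  rfl

theorem lead'_sum {n : ℕ} {ι : Type*} (s : Finset ι) (f : ι → K) (hf : ∀ i ∈ s, f i ∈ L (dv P (n : ℤ))) :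
    lead' hK P n (∑ i ∈ s, f i) = ∑ i ∈ s, lead' hK P n (f i) := by
  classical
  induction s using Finset.induction_on with
  | empty => simp [lead'_zero]
  | insert a s ha ih =>
    have h1 : ∀ i ∈ s, f i ∈ L (dv P (n : ℤ)) := fun i hi => hf i (Finset.mem_insert_of_mem hi)
    rw [Finset.sum_insert ha, Finset.sum_insert ha,
      lead'_add hK P (hf a (Finset.mem_insert_self _ _)) (Submodule.sum_mem _ h1), ih h1]

theorem lead'_mul {a b : ℕ} {x y : K} (hx : x ∈ L (dv P (a : ℤ))) (hy : y ∈ L (dv P (b : ℤ))) :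
    lead' hK P (a + b) (x * y) = lead' hK P a x * lead' hK P b y := by
  have h : x * y ∈ L (dv P (((a + b : ℕ) : ℤ))) := by
    push_cast
    exact mul_mem_L_dv hx hy
  rw [lead'_of_mem hK P hx, lead'_of_mem hK P hy, lead'_of_mem hK P h,
    ← lead_mul hK P ⟨x, hx⟩ ⟨y, hy⟩]
  generalize hz : ((a + b : ℕ) : ℤ) = z at h ⊢
  obtain rfl : z = (a : ℤ) + b := by omega
  rfl

include hK in
theorem mem_poleOrders_iff (n : ℕ) :
    n ∈ poleOrders P ↔ ∃ x ∈ L (dv P (n : ℤ)), lead' hK P n x = 1 := by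
  have hfin := FF.finite_L hK.1 (dv P (n : ℤ))
  have hker : LinearMap.ker (lead hK P n) = Submodule.comap (L (dv P (n : ℤ))).subtype (L (dv P ((n : ℤ) - 1))) := by
    ext x
    rw [LinearMap.mem_ker, lead_eq_zero_iff]
    rfl
  have hle : L (dv P ((n : ℤ) - 1)) ≤ L (dv P (n : ℤ)) := fun x hx => by
    rw [mem_L_dv] at hx ⊢
    exact ⟨hx.1.trans (exp_le_exp.2 (by omega)), hx.2⟩
  have hdim := LinearMap.finrank_range_add_finrank_ker (lead hK P (n : ℤ))
  have hkr : Module.finrank k (LinearMap.ker (lead hK P (n : ℤ))) = ell (dv P ((n : ℤ) - 1)) := by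
    rw [hker, (Submodule.comapSubtypeEquivOfLe hle).finrank_eq]
    rfl
  rw [hkr] at hdim
  change ell (dv P (n : ℤ)) = ell (dv P ((n : ℤ) - 1)) + 1 ↔ _
  have hd : Module.finrank k (L (dv P (n : ℤ))) = ell (dv P (n : ℤ)) := rfl
  constructor
  · intro h
    have h1 : LinearMap.range (lead hK P (n : ℤ)) = ⊤ :=
      Submodule.eq_top_of_finrank_eq (by rw [Module.finrank_self]; omega)
    obtain ⟨x, hx⟩ := h1 ▸ (Submodule.mem_top (R := k) (x := (1 : k)))
    exact ⟨x, x.2, by rw [lead'_of_mem hK P x.2]; exact hx⟩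
  · rintro ⟨x, hx, h1⟩
    rw [lead'_of_mem hK P hx] at h1
    have h2 : LinearMap.range (lead hK P (n : ℤ)) = ⊤ := by
      rw [eq_top_iff]
      intro c _
      exact ⟨c • ⟨x, hx⟩, by rw [map_smul, h1, smul_eq_mul, mul_one]⟩
    rw [h2, finrank_top, Module.finrank_self] at hdim
    omega

include hK in
theorem lead'_eq_zero_of_not_mem {n : ℕ} (hn : n ∉ poleOrders P) (x : K) : lead' hK P n x = 0 := by
  by_contra h
  apply hn
  rw [mem_poleOrders_iff hK P]
  unfold lead' at h
  split at h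
  · rename_i hx
    refine ⟨(lead hK P n ⟨x, hx⟩)⁻¹ • x, Submodule.smul_mem _ _ hx, ?_⟩
    rw [lead'_of_mem hK P (Submodule.smul_mem _ _ hx),
      show (⟨_, Submodule.smul_mem _ (lead hK P n ⟨x, hx⟩)⁻¹ hx⟩ : L (dv P (n : ℤ))) =
        (lead hK P n ⟨x, hx⟩)⁻¹ • (⟨x, hx⟩ : L (dv P (n : ℤ))) from rfl,
      map_smul, smul_eq_mul, inv_mul_cancel₀ h]
  · exact absurd rfl h

include hK in
theorem zero_mem_poleOrders : 0 ∈ poleOrders P :=
  (mem_poleOrders_iff hK P 0).2 ⟨1, one_mem_L P,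
    (lead'_of_mem hK P (n := 0) (one_mem_L P)).trans (lead_one hK P)⟩

include hK in
theorem add_mem_poleOrders {a b : ℕ} (ha : a ∈ poleOrders P) (hb : b ∈ poleOrders P) :
    a + b ∈ poleOrders P := by
  rw [mem_poleOrders_iff hK P] at ha hb ⊢
  obtain ⟨x, hx, hx1⟩ := ha
  obtain ⟨y, hy, hy1⟩ := hb
  refine ⟨x * y, by push_cast; exact mul_mem_L_dv hx hy, ?_⟩
  rw [lead'_mul hK P hx hy, hx1, hy1, mul_one]

include hK in
theorem mem_closure_poleOrders_iff {n : ℕ} :
    n ∈ AddSubmonoid.closure (poleOrders P) ↔ n ∈ poleOrders P := by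
  refine ⟨fun h => ?_, fun h => AddSubmonoid.subset_closure h⟩
  induction h using AddSubmonoid.closure_induction with
  | mem x hx => exact hx
  | zero => exact zero_mem_poleOrders hK P
  | add x y _ _ hx hy => exact add_mem_poleOrders hK P hx hy

include hK in
theorem L_dv_zero : L (dv P 0) = 1 := by
  rw [show dv P 0 = (0 : Divisor k K) from zero_smul ℤ _]
  exact L_zero' hK

include hK in
theorem L_dv_one (hg : 1 ≤ genus k K) : L (dv P 1) = 1 := by
  rw [← L_dv_zero hK P]
  refine le_antisymm (fun x hx => ?_) (fun x hx => ?_)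
  · rw [mem_L_dv] at hx ⊢
    refine ⟨?_, hx.2⟩
    by_contra h
    rcases eq_or_ne x 0 with rfl | hx0
    · simp at h
    have h1 : P.ord x = -1 := by
      have := (val_le_exp_iff P hx0 1).1 hx.1
      rw [val_le_exp_iff P hx0 0] at h
      omega
    obtain ⟨y, hy⟩ := (exists_simple_pole_iff' hK).1
      ⟨x, P, deg_eq_one hK P, h1, fun Q hQ => (val_le_one_iff Q).1 (hx.2 Q hQ)⟩
    have := ((genus_zero_and_exists_deg_one_iff' hK).2 ⟨y, hy⟩).1
    omega
  · rw [mem_L_dv] at hx ⊢
    exact ⟨hx.1.trans (exp_le_exp.2 (by omega)), hx.2⟩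

include hK in
theorem one_not_mem_poleOrders (hg : 1 ≤ genus k K) : 1 ∉ poleOrders P := by
  intro h
  have h' : ell (dv P ((1 : ℕ) : ℤ)) = ell (dv P (((1 : ℕ) : ℤ) - 1)) + 1 := h
  unfold ell at h'
  rw [show ((1 : ℕ) : ℤ) - 1 = 0 by norm_num, show ((1 : ℕ) : ℤ) = 1 from rfl, L_dv_one hK P hg,
    L_dv_zero hK P] at h'
  omega

include hK in
theorem mem_poleOrders_of_large {n : ℕ} (hn : 2 * genus k K ≤ n) : n ∈ poleOrders P := by
  have hd : ∀ m : ℤ, (dv P m).deg = m := fun m => by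
    rw [show dv P m = Finsupp.single P m by simp [dv], deg_single, deg_eq_one hK P]
    simp
  have h1 := ell_eq_of_deg_gt hK (D := dv P (n : ℤ)) (by rw [hd]; omega)
  have h2 := ell_eq_of_deg_gt hK (D := dv P ((n : ℤ) - 1)) (by rw [hd]; omega)
  rw [hd] at h1 h2
  change ell (dv P (n : ℤ)) = ell (dv P ((n : ℤ) - 1)) + 1
  omega

end Groth.Agent.SectR19
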